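import Groth.Prelude.Def_DefoSh
import Groth.Prelude.Def_DefoSh2
import Groth.Agent.Lib.ModM1.Exact
import Mathlib.RingTheory.Flat.EquationalCriterion

/-!
First-order deformations of a module: the canonical short exact sequence `0 → E → D → E → 0`, and the
deformation defined by an extension.
-/

set_option autoImplicit false
set_option backward.isDefEq.respectTransparency false
set_option backward.isDefEq.respectTransparency.types false
set_option linter.style.haveILetI false

universe u

open CategoryTheory CategoryTheory.Limits AlgebraicGeometry TensorProduct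

noncomputable section

namespace Groth.Agent.Defo13

variable {k : Type u} [Field k]

section Algebra

variable {M : Type u} [AddCommGroup M] [Module (DualNumber k) M]

theorem eq_fst_add_snd_eps (z : DualNumber k) :
    z = algebraMap k (DualNumber k) z.fst + z.snd • (DualNumber.eps : DualNumber k) := by
  ext <;> simp [TrivSqZeroExt.algebraMap_eq_inl]

/-- In a flat `k[ε]`-module the annihilator of `ε` is `εM`. -/
theorem exists_eps_smul_of_flat [Module.Flat (DualNumber k) M] {v : M}
    (hv : (DualNumber.eps : DualNumber k) • v = 0) :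
    ∃ w : M, (DualNumber.eps : DualNumber k) • w = v := by
  classical
  obtain ⟨κ, a, y, hy, ha⟩ := Module.Flat.isTrivialRelation_of_sum_smul_eq_zero
    (f := fun _ : Fin 1 => (DualNumber.eps : DualNumber k)) (x := fun _ : Fin 1 => v)
    (by simpa using hv)
  have h0 : ∀ j, a 0 j = (a 0 j).snd • (DualNumber.eps : DualNumber k) := by
    intro j
    have h := congrArg TrivSqZeroExt.snd (ha j)
    simp at h
    ext
    · simpa using h
    · simp
  refine ⟨∑ j, algebraMap k (DualNumber k) (a 0 j).snd • y j, ?_⟩
  rw [Finset.smul_sum]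
  refine Eq.trans ?_ (hy 0).symm
  refine Finset.sum_congr rfl fun j _ => ?_
  rw [smul_smul]
  congr 1
  rw [mul_comm, ← Algebra.smul_def]
  exact (h0 j).symm

/-- An element of `m • M` is a multiple of `ε`. -/
theorem exists_eps_smul_of_mem_maximalIdeal [IsLocalRing (DualNumber k)] {v : M}
    (hv : v ∈ IsLocalRing.maximalIdeal (DualNumber k) • (⊤ : Submodule (DualNumber k) M)) :
    ∃ w : M, (DualNumber.eps : DualNumber k) • w = v := by
  refine Submodule.smul_induction_on hv (fun r hr w _ => ?_) (fun x y hx hy => ?_)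
  ·
    have hr0 : r.fst = 0 := by
      by_contra h
      exact hr (TrivSqZeroExt.isUnit_iff_isUnit_fst.2 (Ne.isUnit h))
    refine ⟨algebraMap k (DualNumber k) r.snd • w, ?_⟩
    rw [smul_smul]
    congr 1
    conv_rhs => rw [eq_fst_add_snd_eps r, hr0, map_zero, zero_add]
    rw [mul_comm, Algebra.smul_def]
  · obtain ⟨a, rfl⟩ := hx
    obtain ⟨b, rfl⟩ := hy
    exact ⟨a + b, smul_add _ _ _⟩

/-- Conversely, a `k[ε]`-module in which the annihilator of `ε` is `εM` is flat. -/
theorem flat_of_forall_exists_eps_smul
    (h : ∀ v : M, (DualNumber.eps : DualNumber k) • v = 0 → ∃ w : M, (DualNumber.eps : DualNumber k) • w = v) :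
    Module.Flat (DualNumber k) M := by
  rw [Module.Flat.iff_lift_lsmul_comp_subtype_injective]
  intro I _
  by_cases hI : ∀ r ∈ I, r.fst = 0
  · by_cases hI0 : ∀ r ∈ I, r = 0
    · have hsub : ∀ t : I ⊗[DualNumber k] M, t = 0 := by
        intro t
        induction t using TensorProduct.induction_on with
        | zero => rfl
        | add x y hx hy => rw [hx, hy, add_zero]
        | tmul r v =>
          have : r = 0 := Subtype.ext (hI0 _ r.2)
          rw [this, TensorProduct.zero_tmul]
      exact fun a b _ => (hsub a).trans (hsub b).symm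
    · push Not at hI0
      obtain ⟨r₀, hr₀, hne⟩ := hI0
      have hsnd : r₀.snd ≠ 0 := fun h0 => hne (by
        ext
        · simpa using hI r₀ hr₀
        · simpa using h0)
      have hε : (DualNumber.eps : DualNumber k) ∈ I := by
        have he : (DualNumber.eps : DualNumber k) = algebraMap k (DualNumber k) r₀.snd⁻¹ * r₀ := by
          ext <;> simp [TrivSqZeroExt.algebraMap_eq_inl, hI r₀ hr₀, hsnd]
        rw [he]
        exact I.mul_mem_left _ hr₀
      let e : I := ⟨DualNumber.eps, hε⟩
      have key : ∀ t : I ⊗[DualNumber k] M, ∃ v : M, t = e ⊗ₜ[DualNumber k] v := by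
        intro t
        induction t using TensorProduct.induction_on with
        | zero => exact ⟨0, (TensorProduct.tmul_zero _ _).symm⟩
        | add x y hx hy =>
          obtain ⟨a, rfl⟩ := hx
          obtain ⟨b, rfl⟩ := hy
          exact ⟨a + b, (TensorProduct.tmul_add _ _ _).symm⟩
        | tmul r v =>
          refine ⟨algebraMap k (DualNumber k) r.1.snd • v, ?_⟩
          rw [← TensorProduct.smul_tmul]
          congr 1
          apply Subtype.ext
          change r.1 = algebraMap k (DualNumber k) r.1.snd * DualNumber.eps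
          conv_lhs => rw [eq_fst_add_snd_eps r.1, hI _ r.2, map_zero, zero_add, Algebra.smul_def]
      rw [injective_iff_map_eq_zero]
      intro t ht
      obtain ⟨v, rfl⟩ := key t
      obtain ⟨w, rfl⟩ := h v (by simpa [e] using ht)
      rw [← TensorProduct.smul_tmul]
      have : (DualNumber.eps : DualNumber k) • e = 0 := by
        apply Subtype.ext
        change (DualNumber.eps : DualNumber k) * DualNumber.eps = 0
        exact DualNumber.eps_mul_eps
      rw [this, TensorProduct.zero_tmul]
  · push Not at hI
    obtain ⟨r, hr, hne⟩ := hI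
    have htop : I = ⊤ := Ideal.eq_top_of_isUnit_mem _ hr (TrivSqZeroExt.isUnit_iff_isUnit_fst.2 (Ne.isUnit hne))
    subst htop
    have : TensorProduct.lift ((LinearMap.lsmul (DualNumber k) M).comp (Submodule.subtype (⊤ : Ideal (DualNumber k)))) =
        ((TensorProduct.congr (Submodule.topEquiv : (⊤ : Ideal (DualNumber k)) ≃ₗ[DualNumber k] DualNumber k)
          (LinearEquiv.refl _ M)).trans (TensorProduct.lid _ M)).toLinearMap := by
      refine TensorProduct.ext' fun r v => ?_
      simp
    rw [this]
    exact LinearEquiv.injective _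

end Algebra

variable {X : Scheme.{u}}

/-- A morphism of modules is zero if it is zero on all stalks. -/
theorem hom_eq_zero_of_stalk {M N : X.Modules} (f : M ⟶ N)
    (h : ∀ (p : X) (v : ↑(M.presheaf.stalk p)), RefHull.stalkMapₗ f p v = 0) : f = 0 := by
  refine Scheme.Modules.hom_ext _ _ fun U => ?_
  ext s
  refine M1.section_ext _ _ fun x hx => ?_
  rw [← M1.germ_naturality]
  refine (h x _).trans ?_
  exact (map_zero _).symm

variable [X.Over (Spec (CommRingCat.of k))] {E : X.Modules}

/-- `ε` in the dual numbers as an object of `Art k k`. -/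
abbrev epsA : (ArtFun.Art.dual k k) := (DualNumber.eps : DualNumber k)

theorem stalkMapₗ_act_mul_self_eq_zero (D : DefoSh.Defo E (ArtFun.Art.dual k k)) (p : X)
    (v : ↑(D.sheaf.presheaf.stalk p)) (hv : RefHull.stalkMapₗ D.π p v = 0) :
    ∃ w, RefHull.stalkMapₗ (D.act (epsA (k := k))) p w = v := by
  letI : Module (DualNumber k) ↑(D.sheaf.presheaf.stalk p) := D.stalkMod p
  haveI : IsLocalRing (DualNumber k) := inferInstanceAs (IsLocalRing (ArtFun.Art.dual k k))
  exact exists_eps_smul_of_mem_maximalIdeal (M := ↑(D.sheaf.presheaf.stalk p)) (D.ker_le p v hv)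

theorem act_eps_comp_self (D : DefoSh.Defo E (ArtFun.Art.dual k k)) :
    D.act (epsA (k := k)) ≫ D.act (epsA (k := k)) = 0 := by
  rw [← End.mul_def, ← map_mul]
  have : (epsA (k := k)) * epsA = 0 := DualNumber.eps_mul_eps
  rw [this, map_zero]

theorem act_eps_π (D : DefoSh.Defo E (ArtFun.Art.dual k k)) : D.act (epsA (k := k)) ≫ D.π = 0 :=
  D.act_π _ (by exact TrivSqZeroExt.fst_inr (R := k) 1)

theorem epi_π {A : ArtFun.Art k k} (D : DefoSh.Defo E A) : Epi D.π :=
  (M1.epi_iff_stalk D.π).2 D.surj

/-- Multiplication by `ε` as a map `E ⟶ D.sheaf`. -/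
theorem exists_iota (D : DefoSh.Defo E (ArtFun.Art.dual k k)) :
    ∃ ι : E ⟶ D.sheaf, D.π ≫ ι = D.act (epsA (k := k)) := by
  haveI := epi_π D
  have h : kernel.ι D.π ≫ D.act (epsA (k := k)) = 0 := by
    refine hom_eq_zero_of_stalk _ fun p v => ?_
    obtain ⟨w, hw⟩ := stalkMapₗ_act_mul_self_eq_zero D p (RefHull.stalkMapₗ (kernel.ι D.π) p v) (by
      rw [← DefoSh.stalkMapₗ_comp_apply, kernel.condition, DefoSh.stalkMapₗ_zero_apply])
    rw [DefoSh.stalkMapₗ_comp_apply, ← hw, ← DefoSh.stalkMapₗ_comp_apply, act_eps_comp_self,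
      DefoSh.stalkMapₗ_zero_apply]
  exact ⟨Abelian.epiDesc D.π _ h, Abelian.comp_epiDesc _ _ _⟩

end Groth.Agent.Defo13
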