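import Groth.Prelude.Def_DefoConn
import Groth.Prelude.Def_DDual2
import Groth.Agent.Lib.Defo13.Seq
import Groth.Agent.Lib.KFlat.LTor
import Groth.Agent.Lib.CurveCoh17.Pairing
import Groth.Agent.Lib.PureClosed13.Rank

/-!
First-order deformations of a connection.
-/

set_option autoImplicit false
set_option backward.isDefEq.respectTransparency false
set_option backward.isDefEq.respectTransparency.types false
set_option linter.style.haveILetI false

universe u

open CategoryTheory CategoryTheory.Limits AlgebraicGeometry Opposite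

noncomputable section

namespace Groth.Agent.Defo13

variable {X : Scheme.{u}}

/-- The underlying abelian sheaf. -/
abbrev ab (X : Scheme.{u}) := SheafOfModules.toSheaf.{u} X.ringCatSheaf

/-- `φ ⊗ 1`. -/
abbrev tmap {M N : X.Modules} (φ : M ⟶ N) (Ω' : X.Modules) :
    CohB1.tensorMod M Ω' ⟶ CohB1.tensorMod N Ω' := KoszTw.tensorMap φ (𝟙 Ω')

theorem secApp_ab {M N : X.Modules} (φ : M ⟶ N) (U : X.Opens) (e : M.val.obj (op U)) :
    ConnSh.secApp ((ab X).map φ) U e = φ.app U e := rfl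

theorem secApp_comp {M N P : X.Modules} (a : Coh.toAb M ⟶ Coh.toAb N) (b : Coh.toAb N ⟶ Coh.toAb P) (U : X.Opens)
    (e : M.val.obj (op U)) : ConnSh.secApp (a ≫ b) U e = ConnSh.secApp b U (ConnSh.secApp a U e) := rfl

theorem secApp_add {M N : X.Modules} (a b : Coh.toAb M ⟶ Coh.toAb N) (U : X.Opens)
    (e : M.val.obj (op U)) : ConnSh.secApp (a + b) U e = ConnSh.secApp a U e + ConnSh.secApp b U e := rfl

theorem secApp_sub {M N : X.Modules} (a b : Coh.toAb M ⟶ Coh.toAb N) (U : X.Opens)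
    (e : M.val.obj (op U)) : ConnSh.secApp (a - b) U e = ConnSh.secApp a U e - ConnSh.secApp b U e := rfl

theorem hom_ext_secApp {M N : X.Modules} {a b : Coh.toAb M ⟶ Coh.toAb N}
    (h : ∀ (U : X.Opens) (e : M.val.obj (op U)), ConnSh.secApp a U e = ConnSh.secApp b U e) : a = b := by
  refine ObjectProperty.hom_ext _ ?_
  ext U e
  exact h U.unop e

variable {Ω' : X.Modules}

/-- Horizontality as an identity of morphisms of abelian sheaves. -/
theorem isHorizontal_iff {E E' : X.Modules} (c : Coh.toAb E ⟶ Coh.toAb (CohB1.tensorMod E Ω'))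
    (c' : Coh.toAb E' ⟶ Coh.toAb (CohB1.tensorMod E' Ω')) (φ : E ⟶ E') :
    ConnSh.IsHorizontal c c' φ ↔ (ab X).map φ ≫ c' = c ≫ (ab X).map (tmap φ Ω') :=
  ⟨fun h => hom_ext_secApp fun U e => h U e, fun h U e => congrArg (fun a => ConnSh.secApp a U e) h⟩

theorem exists_lift_of_smul {M N : X.Modules} (d : Coh.toAb M ⟶ Coh.toAb N)
    (h : ∀ (U : X.Opens) (t : Γ(X, U)) (e : M.val.obj (op U)),
      ConnSh.secApp d U (t • e) = t • ConnSh.secApp d U e) :
    ∃ φ : M ⟶ N, (ab X).map φ = d :=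
  ⟨⟨PresheafOfModules.homMk (M₁ := M.val) (M₂ := N.val) d.hom fun U t e => h U.unop t e⟩,
    hom_ext_secApp fun _ _ => rfl⟩

theorem tmap_comp {M N P : X.Modules} (φ : M ⟶ N) (ψ : N ⟶ P) (Ω' : X.Modules) :
    tmap (φ ≫ ψ) Ω' = tmap φ Ω' ≫ tmap ψ Ω' := by
  rw [tmap, tmap, tmap, ← KoszTw.tensorMap_comp, Category.id_comp]

theorem tmap_id (M : X.Modules) : tmap (𝟙 M) Ω' = 𝟙 _ := KoszTw.tensorMap_id M Ω'

theorem tmap_zero {M N : X.Modules} : tmap (0 : M ⟶ N) Ω' = 0 := by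
  rw [tmap, ← KoszTw.tensorRightMod_map, Functor.map_zero]

theorem tmap_add {M N : X.Modules} (φ ψ : M ⟶ N) : tmap (φ + ψ) Ω' = tmap φ Ω' + tmap ψ Ω' := by
  rw [tmap, tmap, tmap, ← KoszTw.tensorRightMod_map, ← KoszTw.tensorRightMod_map, ← KoszTw.tensorRightMod_map,
    Functor.map_add]

section Over

variable {k : Type u} [Field k] [X.Over (Spec (CommRingCat.of k))]

theorem tmap_smul_id (M : X.Modules) (c : k) : tmap (c • 𝟙 M) Ω' = c • 𝟙 (CohB1.tensorMod M Ω') := by
  rw [KLin.smul_id (X := X) M c, KLin.smul_id (X := X) (CohB1.tensorMod M Ω') c]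
  unfold Formal.smulMod
  rw [tmap, KoszTw.tensorMap_eq_sheafify]
  exact CurveCoh17.tensorMap_smulModΓ M Ω' _

variable {δ : OmegaSh.Der (X ↘ Spec (CommRingCat.of k)) Ω'}

theorem der_const (c : k) (U : X.Opens) :
    δ.app U (X.presheaf.map (homOfLE (le_top : U ≤ ⊤)).op (Coh.toGlobal (X ↘ Spec (CommRingCat.of k)) c)) = 0 := by
  have h1 : δ.app ⊤ (Coh.toGlobal (X ↘ Spec (CommRingCat.of k)) c) = 0 :=
    δ.d_app (X := op ⊤) ((Scheme.ΓSpecIso (CommRingCat.of k)).inv.hom c)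
  have h2 := δ.d_map (homOfLE (le_top : U ≤ (⊤ : X.Opens))).op (Coh.toGlobal (X ↘ Spec (CommRingCat.of k)) c)
  refine h2.trans ?_
  change Ω'.val.map _ (δ.app ⊤ (Coh.toGlobal (X ↘ Spec (CommRingCat.of k)) c)) = 0
  rw [h1, map_zero]

/-- A connection commutes with the scalars of `k`. -/
theorem conn_smul_id {M : X.Modules} {c : Coh.toAb M ⟶ Coh.toAb (CohB1.tensorMod M Ω')}
    (hc : ConnSh.IsConn δ M c) (a : k) :
    (ab X).map (a • 𝟙 M) ≫ c = c ≫ (ab X).map (a • 𝟙 (CohB1.tensorMod M Ω')) := by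
  refine hom_ext_secApp fun U e => ?_
  rw [secApp_comp, secApp_comp, secApp_ab, secApp_ab, KLin.smul_app_apply, KLin.smul_app_apply]
  refine (hc U _ e).trans ?_
  rw [der_const (k := k) a U]
  have : SecTwist.tmul M Ω' U e (0 : Γ(Ω', U)) = 0 := by
    unfold SecTwist.tmul
    rw [TensorProduct.tmul_zero, map_zero]
  rw [this, add_zero]
  rfl

end Over

end Groth.Agent.Defo13
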