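import Groth.Agent.Lib.Defo13.Conn

/-!
Deformations of a connection: the torsor over `Hom(E, E ⊗ Ω)` and transport.
-/

set_option autoImplicit false
set_option backward.isDefEq.respectTransparency false
set_option backward.isDefEq.respectTransparency.types false
set_option linter.style.haveILetI false
set_option maxHeartbeats 1000000

universe u

open CategoryTheory CategoryTheory.Limits AlgebraicGeometry Opposite

noncomputable section

namespace Groth.Agent.Defo13

variable {X : Scheme.{u}} {Ω' : X.Modules}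

theorem isFlat_TX {E : X.Modules} (hE : FlatMod.IsFinLocFree E) :
    KFlat.IsFlat (KFlat.Sch.TX X) E := by
  refine (KFlat.Sch.isFlat_iff E).2 fun x => ?_
  haveI := ((M1.isFinLocFree_iff E).1 hE).2 x
  exact Module.Flat.of_free

variable {k : Type u} [Field k] [X.Over (Spec (CommRingCat.of k))] {E : X.Modules}

theorem iota_act (D : DefoSh.Defo E (ArtFun.Art.dual k k)) {ι : E ⟶ D.sheaf}
    (hι : D.π ≫ ι = D.act (epsA (k := k))) (a : ArtFun.Art.dual k k) :
    ι ≫ D.act a = (a : DualNumber k).fst • ι ∧ D.act a ≫ D.π = (a : DualNumber k).fst • D.π := by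
  haveI := epi_π D
  have h1 : ι ≫ (D.act (epsA (k := k)) : D.sheaf ⟶ D.sheaf) = 0 := by
    rw [← hι, ← Category.assoc, iota_comp_π D hι, zero_comp]
  constructor
  · rw [act_eq D a]
    refine (Preadditive.comp_add _ _ _ ι ((a : DualNumber k).fst • 𝟙 D.sheaf)
      ((a : DualNumber k).snd • (D.act (epsA (k := k)) : D.sheaf ⟶ D.sheaf))).trans ?_
    rw [Linear.comp_smul, Linear.comp_smul, h1, Category.comp_id, smul_zero, add_zero]
  · rw [act_eq D a]
    refine (Preadditive.add_comp _ _ _ ((a : DualNumber k).fst • 𝟙 D.sheaf)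
      ((a : DualNumber k).snd • (D.act (epsA (k := k)) : D.sheaf ⟶ D.sheaf)) D.π).trans ?_
    rw [Linear.smul_comp, Linear.smul_comp, act_eps_π, Category.id_comp, smul_zero, add_zero]

/-- The perturbation `π ≫ φ ≫ (ι ⊗ 1)`. -/
abbrev pert (D : DefoSh.Defo E (ArtFun.Art.dual k k)) (ι : E ⟶ D.sheaf) (φ : E ⟶ CohB1.tensorMod E Ω') :
    D.sheaf ⟶ CohB1.tensorMod D.sheaf Ω' := D.π ≫ φ ≫ tmap ι Ω'

variable (D : DefoSh.Defo E (ArtFun.Art.dual k k)) {ι : E ⟶ D.sheaf}
  (hι : D.π ≫ ι = D.act (epsA (k := k)))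

include hι in
theorem tmap_iota_π : tmap ι Ω' ≫ tmap D.π Ω' = 0 := by
  rw [← tmap_comp, iota_comp_π D hι, tmap_zero]

include hι in
theorem pert_π (φ : E ⟶ CohB1.tensorMod E Ω') : pert D ι φ ≫ tmap D.π Ω' = 0 := by
  simp only [pert, Category.assoc, tmap_iota_π D hι, comp_zero]

include hι in
theorem pert_act (φ : E ⟶ CohB1.tensorMod E Ω') (a : ArtFun.Art.dual k k) :
    (D.act a : D.sheaf ⟶ D.sheaf) ≫ pert D ι φ = pert D ι φ ≫ tmap (D.act a) Ω' := by
  obtain ⟨h1, h2⟩ := iota_act D hι a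
  simp only [pert, Category.assoc]
  rw [← Category.assoc, h2, ← tmap_comp, h1]
  have h3 : tmap ((a : DualNumber k).fst • ι) Ω' = (a : DualNumber k).fst • tmap ι Ω' := by
    rw [← Category.id_comp ι, ← Linear.smul_comp, tmap_comp, tmap_smul_id, Linear.smul_comp,
      Category.id_comp, Category.id_comp]
  rw [h3]
  simp only [Linear.smul_comp, Linear.comp_smul]

variable {δ : OmegaSh.Der (X ↘ Spec (CommRingCat.of k)) Ω'}
  {nabla : Coh.toAb E ⟶ Coh.toAb (CohB1.tensorMod E Ω')}

/-- A deformed connection plus a perturbation. -/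
def addPert (c₀ : DefoSh.DefoConn δ nabla D) (φ : E ⟶ CohB1.tensorMod E Ω') : DefoSh.DefoConn δ nabla D where
  conn := c₀.conn + (ab X).map (pert D ι φ)
  isConn U t e := by
    rw [secApp_add, secApp_add, c₀.isConn U t e, secApp_ab, secApp_ab, Scheme.Modules.Hom.app_smul, smul_add]
    exact add_right_comm _ _ _
  act_horizontal a := by
    rw [isHorizontal_iff, Preadditive.comp_add, Preadditive.add_comp,
      (isHorizontal_iff _ _ _).1 (c₀.act_horizontal a), ← Functor.map_comp, ← Functor.map_comp, pert_act D hι φ a]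
  π_horizontal := by
    rw [isHorizontal_iff, Preadditive.add_comp, ← Functor.map_comp, pert_π D hι, Functor.map_zero, add_zero]
    exact (isHorizontal_iff _ _ _).1 c₀.π_horizontal

theorem addPert_conn (c₀ : DefoSh.DefoConn δ nabla D) (φ : E ⟶ CohB1.tensorMod E Ω') :
    (addPert D hι c₀ φ).conn - c₀.conn = (ab X).map (pert D ι φ) := add_sub_cancel_left _ _

theorem conn_ext {c c' : DefoSh.DefoConn δ nabla D} (h : c.conn = c'.conn) : c = c' := by
  cases c; cases c'; cases h; rfl

section Flat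

variable (hE : FlatMod.IsFinLocFree E)

include hι hE in
theorem mono_tmap_iota : Mono (tmap ι Ω') := by
  have h := KFlat.Sch.mono_tensorRightMod_map Ω' _ (shortExact D hι (iota_comp_π D hι)) (isFlat_TX hE)
  rwa [KoszTw.tensorRightMod_map] at h

include hι hE in
theorem exists_lift_tmap {M : X.Modules} (f : M ⟶ CohB1.tensorMod D.sheaf Ω') (hf : f ≫ tmap D.π Ω' = 0) :
    ∃ g : M ⟶ CohB1.tensorMod E Ω', g ≫ tmap ι Ω' = f := by
  have hS := shortExact D hι (iota_comp_π D hι)
  haveI := hS.epi_g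
  haveI := mono_tmap_iota (Ω' := Ω') D hι hE
  have hex := hS.exact.map_of_epi_of_preservesCokernel (DCoh.tensorRightMod Ω') hS.epi_g inferInstance
  haveI : Mono ((ShortComplex.mk ι D.π (iota_comp_π D hι)).map (DCoh.tensorRightMod Ω')).f := by
    change Mono ((DCoh.tensorRightMod Ω').map ι)
    rw [KoszTw.tensorRightMod_map]
    infer_instance
  obtain ⟨g, hg⟩ := hex.lift' f (by
    change f ≫ (DCoh.tensorRightMod Ω').map D.π = 0
    rw [KoszTw.tensorRightMod_map]
    exact hf)
  refine ⟨g, Eq.trans ?_ hg⟩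
  change g ≫ tmap ι Ω' = g ≫ (DCoh.tensorRightMod Ω').map ι
  rw [KoszTw.tensorRightMod_map]

include hι hE in
theorem pert_injective {φ ψ : E ⟶ CohB1.tensorMod E Ω'} (h : pert D ι φ = pert D ι ψ) : φ = ψ := by
  haveI := epi_π D
  haveI := mono_tmap_iota (Ω' := Ω') D hι hE
  rwa [pert, pert, cancel_epi, cancel_mono] at h

include hι hE in
theorem exists_pert (c c₀ : DefoSh.DefoConn δ nabla D) :
    ∃ φ : E ⟶ CohB1.tensorMod E Ω', c.conn - c₀.conn = (ab X).map (pert D ι φ) := by
  haveI := epi_π D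
  haveI := mono_tmap_iota (Ω' := Ω') D hι hE
  obtain ⟨d, hd⟩ := exists_lift_of_smul (c.conn - c₀.conn) (fun U t e => by
    rw [secApp_sub, secApp_sub, c.isConn U t e, c₀.isConn U t e, smul_sub, add_sub_add_right_eq_sub])
  have hdπ : d ≫ tmap D.π Ω' = 0 := by
    apply (ab X).map_injective
    rw [Functor.map_comp, Functor.map_zero, hd, Preadditive.sub_comp, ← (isHorizontal_iff _ _ _).1 c.π_horizontal,
      ← (isHorizontal_iff _ _ _).1 c₀.π_horizontal, sub_self]
  obtain ⟨g, hg⟩ := exists_lift_tmap D hι hE d hdπ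
  have hε : (D.act (epsA (k := k)) : D.sheaf ⟶ D.sheaf) ≫ d = d ≫ tmap (D.act (epsA (k := k))) Ω' := by
    apply (ab X).map_injective
    rw [Functor.map_comp, Functor.map_comp, hd, Preadditive.comp_sub, Preadditive.sub_comp,
      (isHorizontal_iff _ _ _).1 (c.act_horizontal _), (isHorizontal_iff _ _ _).1 (c₀.act_horizontal _)]
  rw [← hg, ← hι, tmap_comp, Category.assoc, Category.assoc, reassoc_of% (tmap_iota_π (Ω' := Ω') D hι), zero_comp,
    comp_zero, ← Category.assoc ι, ← Category.assoc] at hε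
  rw [← comp_zero (X := D.sheaf) (f := D.π) (Z := CohB1.tensorMod D.sheaf Ω'), Category.assoc, cancel_epi,
    ← zero_comp (X := E) (f := tmap ι Ω'), cancel_mono] at hε
  obtain ⟨φ, hφ⟩ := (shortExact D hι (iota_comp_π D hι)).exact.desc' g hε
  refine ⟨φ, ?_⟩
  rw [← hd, ← hg]
  change _ = (ab X).map (D.π ≫ φ ≫ tmap ι Ω')
  rw [← Category.assoc]
  exact congrArg (fun z => (ab X).map (z ≫ tmap ι Ω')) hφ.symm

/-- Deformations of a connection form a torsor under `Hom(E, E ⊗ Ω')`. -/
def equivHom (c₀ : DefoSh.DefoConn δ nabla D) :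
    DefoSh.DefoConn δ nabla D ≃ (E ⟶ CohB1.tensorMod E Ω') where
  toFun c := (exists_pert D hι hE c c₀).choose
  invFun φ := addPert D hι c₀ φ
  left_inv c := conn_ext D (by
    have := (exists_pert D hι hE c c₀).choose_spec
    change c₀.conn + _ = c.conn
    rw [← this, add_sub_cancel])
  right_inv φ := by
    refine pert_injective D hι hE ((ab X).map_injective ?_)
    rw [← (exists_pert D hι hE (addPert D hι c₀ φ) c₀).choose_spec, addPert_conn]

end Flat

end Groth.Agent.Defo13
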