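import Groth.Agent.Lib.Defo13.ConnMain

/-!
Transport of deformed connections; the trivial deformation of a connection.
-/

set_option autoImplicit false
set_option backward.isDefEq.respectTransparency false
set_option backward.isDefEq.respectTransparency.types false
set_option linter.style.haveILetI false
set_option maxHeartbeats 1000000

universe u

open CategoryTheory CategoryTheory.Limits AlgebraicGeometry Opposite

noncomputable section

namespace Groth.Agent.Defo13

variable {X : Scheme.{u}} {Ω' : X.Modules} {k : Type u} [Field k] [X.Over (Spec (CommRingCat.of k))] {E : X.Modules}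
  {δ : OmegaSh.Der (X ↘ Spec (CommRingCat.of k)) Ω'} {nabla : Coh.toAb E ⟶ Coh.toAb (CohB1.tensorMod E Ω')}
  (D : DefoSh.Defo E (ArtFun.Art.dual k k)) {ι : E ⟶ D.sheaf} (hι : D.π ≫ ι = D.act (epsA (k := k)))

include hι in
theorem ab_iota_conn (c : DefoSh.DefoConn δ nabla D) :
    (ab X).map ι ≫ c.conn = nabla ≫ (ab X).map (tmap ι Ω') := by
  haveI := epi_π D
  haveI : Epi ((ab X).map D.π) := inferInstanceAs (Epi ((M1.toShAb X).map D.π))
  rw [← cancel_epi ((ab X).map D.π), ← Category.assoc, ← Functor.map_comp, hι,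
    (isHorizontal_iff _ _ _).1 (c.act_horizontal (epsA (k := k))), ← hι, tmap_comp, Functor.map_comp,
    ← Category.assoc c.conn, ← (isHorizontal_iff _ _ _).1 c.π_horizontal, Category.assoc]

include hι in
theorem comm_conn (c c' : DefoSh.DefoConn δ nabla D) (S : E ⟶ E) :
    (ab X).map (D.π ≫ S ≫ ι) ≫ c'.conn = (ab X).map D.π ≫ ((ab X).map S ≫ nabla) ≫ (ab X).map (tmap ι Ω') ∧
      c.conn ≫ (ab X).map (tmap (D.π ≫ S ≫ ι) Ω') =
        (ab X).map D.π ≫ (nabla ≫ (ab X).map (tmap S Ω')) ≫ (ab X).map (tmap ι Ω') := by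
  constructor
  · simp only [Functor.map_comp, Category.assoc, ab_iota_conn D hι c']
  · rw [tmap_comp, tmap_comp, Functor.map_comp, Functor.map_comp, ← Category.assoc c.conn,
      ← (isHorizontal_iff _ _ _).1 c.π_horizontal]
    simp only [Category.assoc]

theorem horiz_one_add_iff {M : X.Modules} (c c' : Coh.toAb M ⟶ Coh.toAb (CohB1.tensorMod M Ω')) (n : M ⟶ M) :
    ConnSh.IsHorizontal c c' (𝟙 M + n) ↔ c' - c = c ≫ (ab X).map (tmap n Ω') - (ab X).map n ≫ c' := by
  rw [isHorizontal_iff, tmap_add, tmap_id, Functor.map_add, Functor.map_add, Preadditive.add_comp,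
    Preadditive.comp_add, CategoryTheory.Functor.map_id, CategoryTheory.Functor.map_id, Category.id_comp,
    Category.comp_id, sub_eq_sub_iff_add_eq_add, add_comm (c ≫ (ab X).map (tmap n Ω')) c]

include hι in
theorem transport_iff (c c' : DefoSh.DefoConn δ nabla D) :
    DefoSh.DefoConn.Transport c c' ↔ ∃ S : E ⟶ E,
      c'.conn - c.conn = (ab X).map D.π ≫
        (nabla ≫ (ab X).map (tmap S Ω') - (ab X).map S ≫ nabla) ≫ (ab X).map (tmap ι Ω') := by
  haveI := epi_π D
  haveI := mono_iota D hι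
  have key : ∀ S : E ⟶ E, (ab X).map D.π ≫
      (nabla ≫ (ab X).map (tmap S Ω') - (ab X).map S ≫ nabla) ≫ (ab X).map (tmap ι Ω') =
      c.conn ≫ (ab X).map (tmap (D.π ≫ S ≫ ι) Ω') - (ab X).map (D.π ≫ S ≫ ι) ≫ c'.conn := by
    intro S
    obtain ⟨h1, h2⟩ := comm_conn D hι c c' S
    rw [h1, h2, Preadditive.sub_comp, Preadditive.comp_sub]
  constructor
  · rintro ⟨e, he⟩
    have hι' : ι ≫ e.iso.hom = ι := by
      rw [← cancel_epi D.π, ← Category.assoc, hι, e.act_hom, ← hι, ← Category.assoc, e.hom_π]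
    have hS := shortExact D hι (iota_comp_π D hι)
    obtain ⟨h, hh⟩ := hS.exact.lift' (e.iso.hom - 𝟙 _) (by
      change (e.iso.hom - 𝟙 _) ≫ D.π = 0
      rw [Preadditive.sub_comp, e.hom_π, Category.id_comp, sub_self])
    replace hh : h ≫ ι = e.iso.hom - 𝟙 _ := hh
    have h0 : ι ≫ h = 0 := by
      rw [← cancel_mono ι, Category.assoc, hh, Preadditive.comp_sub, hι', Category.comp_id, sub_self, zero_comp]
    obtain ⟨S, hS'⟩ := hS.exact.desc' h h0
    replace hS' : D.π ≫ S = h := hS'
    refine ⟨S, ?_⟩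
    rw [key, ← Category.assoc D.π, hS', hh, ← horiz_one_add_iff]
    rwa [add_sub_cancel]
  · rintro ⟨S, hS⟩
    rw [key, ← horiz_one_add_iff] at hS
    have hn : (D.π ≫ S ≫ ι) ≫ (D.π ≫ S ≫ ι) = 0 := by
      simp only [Category.assoc, reassoc_of% (iota_comp_π D hι), zero_comp, comp_zero]
    let e : D.sheaf ≅ D.sheaf :=
      { hom := 𝟙 _ + D.π ≫ S ≫ ι
        inv := 𝟙 _ - D.π ≫ S ≫ ι
        hom_inv_id := by
          simp only [Preadditive.add_comp, Preadditive.comp_sub, Category.id_comp, Category.comp_id, hn]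
          abel
        inv_hom_id := by
          simp only [Preadditive.sub_comp, Preadditive.comp_add, Category.id_comp, Category.comp_id, hn]
          abel }
    refine ⟨isoMk e ?_ ?_, hS⟩
    · change (𝟙 _ + D.π ≫ S ≫ ι) ≫ D.π = D.π
      simp only [Preadditive.add_comp, Category.id_comp, Category.assoc, iota_comp_π D hι, comp_zero, add_zero]
    · change _ ≫ (𝟙 _ + D.π ≫ S ≫ ι) = (𝟙 _ + D.π ≫ S ≫ ι) ≫ _
      rw [← hι]
      simp only [Preadditive.comp_add, Preadditive.add_comp, Category.id_comp, Category.comp_id, Category.assoc,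
        reassoc_of% (iota_comp_π D hι), zero_comp, comp_zero, add_zero]

end Groth.Agent.Defo13
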